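import Mathlib
import Cfsg.Prelude.Def_Blocks
import Cfsg.Agent.Lib.Blocks.Weak
import Cfsg.Agent.Lib.Char.Galois
import Cfsg.Agent.Lib.Char.Linear
import Cfsg.Agent.Lib.Char.Zeros
import Cfsg.Agent.Lib.BlockH.Basic
import Cfsg.Agent.Lib.Char.Burnside

/-!
# The principal block argument behind Kazarin's theorem

Let `w` be a `q`-element whose class has size prime to `q` and a power of a prime `p ≠ q`, with
`⟨w^G⟩ = G`.  Then no element of `G'` has order divisible by `q`.
-/

set_option autoImplicit false
set_option linter.unusedSectionVars false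
set_option linter.style.haveILetI false

namespace Cfsg.Agent.Lib.Kazarin.Block

open Cfsg Module
open Cfsg.Agent.Lib.Blocks.Local Cfsg.Agent.Lib.Blocks.Weak
open scoped ComplexConjugate

universe u

variable {G : Type u} [Group G] [Finite G] {M : Ideal AlgInt} {p q : ℕ}

/-- Members of the principal `q`-block do not vanish at a `q`-central element. -/
theorem char_ne_zero_of_mem_principal (hM : IsPModular q M) {w : G}
    (hw : ¬ q ∣ (Subgroup.centralizer ({w} : Set G)).index) {χ : IrrCharacter G}
    (hχ : χ ∈ principalBlock M G) : (χ : G → ℂ) w ≠ 0 := by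
  intro h0
  haveI := isPrime_of_pModular hM
  have h := hχ w
  simp only [centralChar, h0, mul_zero, zero_div, sub_zero] at h
  simp only [mul_one, div_one] at h
  exact hw ((natCast_memLocalIdeal_iff hM _).1 h)

/-- If the normal closure of `w` is everything, a scalar value at `w` forces degree one. -/
theorem deg_one_of_scalar {n : ℕ} (ρ : Representation ℂ G (Fin n → ℂ)) [hρ : ρ.IsIrreducible] {w : G}
    (hcl : Subgroup.normalClosure ({w} : Set G) = ⊤) {ω : ℂ}
    (hω : ρ w = ω • (LinearMap.id : (Fin n → ℂ) →ₗ[ℂ] (Fin n → ℂ))) :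
    ∀ g : G, ∃ c : ℂ, ρ g = c • (LinearMap.id : (Fin n → ℂ) →ₗ[ℂ] (Fin n → ℂ)) := by
  let S : Subgroup G :=
    { carrier := {g | ∃ c : ℂ, ρ g = c • (LinearMap.id : (Fin n → ℂ) →ₗ[ℂ] (Fin n → ℂ))}
      one_mem' := ⟨1, by
        rw [map_one, one_smul]
        rfl⟩
      mul_mem' := by
        rintro a b ⟨c, hc⟩ ⟨d, hd⟩
        refine ⟨c * d, ?_⟩
        rw [map_mul, hc, hd]
        refine LinearMap.ext fun v => ?_
        simp [mul_smul, smul_comm d c v]
      inv_mem' := by
        rintro a ⟨c, hc⟩
        -- `ρ a` is invertible, hence `c ≠ 0`, and `ρ a⁻¹ = c⁻¹`.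
        have hone : (ρ a⁻¹) * (ρ a) = 1 := by rw [← map_mul]; simp
        by_cases hc0 : c = 0
        · refine ⟨1, LinearMap.ext fun v => ?_⟩
          have h1 : ∀ x : Fin n → ℂ, x = 0 := by
            intro x
            rw [hc, hc0, zero_smul, mul_zero] at hone
            have := LinearMap.congr_fun hone x
            simpa using this.symm
          exact (h1 _).trans (h1 _).symm
        refine ⟨c⁻¹, LinearMap.ext fun v => ?_⟩
        rw [hc] at hone
        have := LinearMap.congr_fun hone ((c⁻¹) • v)
        simp only [Module.End.mul_apply, LinearMap.smul_apply, LinearMap.id_apply, smul_smul,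
          mul_inv_cancel₀ hc0, one_smul, Module.End.one_apply] at this
        rw [LinearMap.smul_apply, LinearMap.id_apply]
        exact this }
  have hnorm : S.Normal := by
    constructor
    rintro a ⟨c, hc⟩ g
    refine ⟨c, ?_⟩
    rw [map_mul, map_mul, hc]
    refine LinearMap.ext fun v => ?_
    have h1 : (ρ g) * (ρ g⁻¹) = 1 := by rw [← map_mul]; simp
    have h2 := LinearMap.congr_fun h1 v
    simp only [Module.End.mul_apply, LinearMap.smul_apply, LinearMap.id_apply, map_smul,
      Module.End.one_apply] at h2 ⊢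
    rw [h2]
  have hle : Subgroup.normalClosure ({w} : Set G) ≤ S := by
    apply Subgroup.normalClosure_le_normal
    rintro _ rfl
    exact ⟨ω, hω⟩
  rw [hcl] at hle
  intro g
  exact hle (Subgroup.mem_top g)

/-- An irreducible representation by scalars has dimension one. -/
theorem finrank_eq_one_of_scalars {n : ℕ} (ρ : Representation ℂ G (Fin n → ℂ)) [hρ : ρ.IsIrreducible]
    (h : ∀ g : G, ∃ c : ℂ, ρ g = c • (LinearMap.id : (Fin n → ℂ) →ₗ[ℂ] (Fin n → ℂ))) :
    finrank ℂ (Fin n → ℂ) = 1 := by
  have hpos := Cfsg.Agent.Lib.Char.Central.finrank_pos_of_irreducible ρ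
  have : Nontrivial (Fin n → ℂ) := Module.nontrivial_of_finrank_pos hpos
  obtain ⟨v, hv⟩ := exists_ne (0 : Fin n → ℂ)
  have hW := Cfsg.Agent.Lib.Char.Zeros.eq_bot_or_eq_top_of_invariant ρ (Submodule.span ℂ {v}) (by
    intro g x hx
    obtain ⟨c, hc⟩ := h g
    rw [hc]
    simp only [LinearMap.smul_apply, LinearMap.id_apply]
    exact Submodule.smul_mem _ _ hx)
  rcases hW with h0 | h1
  · exfalso
    apply hv
    rw [Submodule.span_singleton_eq_bot] at h0
    exact h0
  · have := finrank_span_singleton (K := ℂ) hv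
    rw [h1, finrank_top] at this
    exact this

/-- A nonzero value at `w` on a degree prime to `p` forces a linear character. -/
theorem linear_or_dvd (hp : p.Prime) {w : G} {a : ℕ}
    (hidx : (Subgroup.centralizer ({w} : Set G)).index = p ^ a)
    (hcl : Subgroup.normalClosure ({w} : Set G) = ⊤) (χ : IrrCharacter G)
    (h0 : (χ : G → ℂ) w ≠ 0) : (χ : G → ℂ) 1 = 1 ∨ p ∣ charDegree (χ : G → ℂ) := by
  obtain ⟨n, ρ, hirr, hρ⟩ := χ.2
  haveI := hirr
  have hχ1 : (χ : G → ℂ) 1 = (finrank ℂ (Fin n → ℂ) : ℂ) := by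
    rw [← hρ, Representation.char_one]
  have hdeg : charDegree (χ : G → ℂ) = finrank ℂ (Fin n → ℂ) := by
    rw [charDegree, hχ1]
    simp
  by_cases hd : p ∣ finrank ℂ (Fin n → ℂ)
  · right
    rw [hdeg]
    exact hd
  left
  have hcop : Nat.Coprime (finrank ℂ (Fin n → ℂ)) (Subgroup.centralizer ({w} : Set G)).index := by
    rw [hidx]
    exact Nat.Coprime.pow_right a (((Nat.Prime.coprime_iff_not_dvd hp).mpr hd).symm)
  rcases Cfsg.Agent.Lib.Char.Galois.character_eq_zero_or_norm_eq_of_coprime ρ w hcop with h | h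
  · exfalso
    apply h0
    rw [← hρ, h]
  · obtain ⟨ω, hω⟩ := (Cfsg.Agent.Lib.Char.Eigen.norm_character_eq_iff_scalar ρ w).mp h
    have := finrank_eq_one_of_scalars ρ (deg_one_of_scalar ρ hcl hω)
    rw [hχ1, this]
    simp

/-- The abelianization is a `q`-group when the normal closure of a `q`-element is everything. -/
theorem isPGroup_abelianization {w : G} {k : ℕ} (hw : orderOf w = q ^ k)
    (hcl : Subgroup.normalClosure ({w} : Set G) = ⊤) : IsPGroup q (Abelianization G) := by
  have hnorm : ((Subgroup.zpowers (Abelianization.of w)).comap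
      (Abelianization.of : G →* Abelianization G)).Normal :=
    Subgroup.Normal.comap inferInstance _
  have hle : Subgroup.normalClosure ({w} : Set G) ≤
      (Subgroup.zpowers (Abelianization.of w)).comap (Abelianization.of : G →* Abelianization G) := by
    apply Subgroup.normalClosure_le_normal
    rintro _ rfl
    exact Subgroup.mem_zpowers _
  rw [hcl] at hle
  intro a
  obtain ⟨x, rfl⟩ := QuotientGroup.mk_surjective a
  have hx := hle (Subgroup.mem_top x)
  obtain ⟨i, hi⟩ := Subgroup.mem_zpowers_iff.mp hx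
  refine ⟨k, ?_⟩
  have h1 : (Abelianization.of w) ^ (q ^ k) = 1 := by
    rw [← map_pow, ← hw, pow_orderOf_eq_one, map_one]
  have h2 : (QuotientGroup.mk x : Abelianization G) = Abelianization.of x := rfl
  rw [h2, ← hi, ← zpow_natCast, ← zpow_mul, mul_comm, zpow_mul, zpow_natCast, h1, one_zpow]

/-- Index of the commutator subgroup, when the normal closure of a `q`-element is everything. -/
theorem exists_index_commutator (hq : q.Prime) {w : G} {k : ℕ} (hw : orderOf w = q ^ k)
    (hcl : Subgroup.normalClosure ({w} : Set G) = ⊤) :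
    ∃ m : ℕ, (commutator G).index = q ^ m := by
  haveI : Fact q.Prime := ⟨hq⟩
  obtain ⟨m, hm⟩ := IsPGroup.iff_card.mp (isPGroup_abelianization hw hcl)
  exact ⟨m, hm⟩

/-- A linear character of a group with abelianization of `q`-power order is in the principal
`q`-block. -/
theorem linear_mem_principal (hM : IsPModular q M) {m : ℕ} (hm : (commutator G).index = q ^ m)
    (χ : IrrCharacter G) (h1 : (χ : G → ℂ) 1 = 1) : χ ∈ principalBlock M G := by
  haveI := isPrime_of_pModular hM
  obtain ⟨lam, hlam⟩ := Cfsg.Agent.Lib.Char.Linear.exists_hom_of_deg_one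
    (Cfsg.Agent.Lib.Char.Basic.isCharacter_of_isIrrCharacter χ.2) h1
  intro x
  have hcard : Nat.card (Abelianization G) = q ^ m := hm
  have hpow : (lam x) ^ (q ^ m) = 1 := by
    have h2 : (Abelianization.of x) ^ (q ^ m) = 1 := by
      rw [← hcard]
      exact pow_card_eq_one'
    have h3 := congrArg (Abelianization.lift lam) h2
    rw [map_pow, Abelianization.lift_apply_of, map_one] at h3
    exact h3
  have hval : (χ : G → ℂ) x = (lam x : ℂ) := congrFun hlam x
  have hint : IsIntegral ℤ ((lam x : ℂˣ) : ℂ) := by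
    apply Cfsg.Agent.Lib.BlockT.Local.isIntegral_of_pow_eq_one (n := q ^ m) (pow_pos hM.1.pos m)
    rw [← Units.val_pow_eq_pow_val, hpow]
    simp
  let a : AlgInt := ⟨((lam x : ℂˣ) : ℂ), hint⟩
  have ha : a ^ (q ^ m) = 1 := by
    apply Subtype.ext
    change ((lam x : ℂˣ) : ℂ) ^ (q ^ m) = 1
    rw [← Units.val_pow_eq_pow_val, hpow]
    simp
  have hmem := Cfsg.Agent.Lib.BlockH.Basic.sub_one_mem_of_pow_prime_pow hM ha
  have hloc : MemLocalIdeal M (((1 - a : AlgInt)) : ℂ) := memLocalIdeal_coe_iff.mpr hmem
  have hcc : centralChar (fun _ : G => (1 : ℂ)) x - centralChar (χ : G → ℂ) x =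
      ((Subgroup.centralizer ({x} : Set G)).index : ℂ) * (((1 - a : AlgInt)) : ℂ) := by
    simp only [centralChar, h1, hval, div_one, mul_one]
    push_cast
    simp only [a]
    ring
  show MemLocalIdeal M (centralChar (fun _ : G => (1 : ℂ)) x - centralChar (χ : G → ℂ) x)
  rw [hcc]
  exact memLocalIdeal_mul_left (memLocalRing_natCast _) hloc

/-- **Block argument**: if the normal closure of the `q`-element `w` of `p`-power class size is
everything, then no element of `G'` has order divisible by `q`. -/
theorem not_dvd_orderOf_of_mem_commutator (hp : p.Prime) (hq : q.Prime) (hpq : p ≠ q) {w : G} {k a : ℕ}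
    (hw : orderOf w = q ^ k) (hidx : (Subgroup.centralizer ({w} : Set G)).index = p ^ a)
    (hcl : Subgroup.normalClosure ({w} : Set G) = ⊤) {g : G} (hg : g ∈ commutator G) :
    ¬ q ∣ orderOf g := by
  classical
  intro hqg
  obtain ⟨M, hM⟩ := Cfsg.Agent.Lib.BlockH.Basic.exists_isPModular hq
  haveI := isPrime_of_pModular hM
  obtain ⟨m, hm⟩ := exists_index_commutator hq hw hcl
  let _ : Fintype G := Fintype.ofFinite G
  have := Cfsg.Agent.Lib.Char.Ortho.finite_irrCharacter (G := G)
  let _ : Fintype (IrrCharacter G) := Fintype.ofFinite _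
  have hB : IsPBlock M (principalBlock M G) :=
    ⟨⟨fun _ => 1, Cfsg.Agent.Lib.Char.Burnside.isIrrCharacter_one⟩, rfl⟩
  have hsum := sum_block_eq_zero hM hB (1 : G) g (by simpa using hq.one_lt.ne') hqg
  have hwq : ¬ q ∣ (Subgroup.centralizer ({w} : Set G)).index := by
    rw [hidx]
    intro h
    exact hpq ((Nat.prime_dvd_prime_iff_eq hq hp).mp (hq.dvd_of_dvd_pow h)).symm
  -- the integrality decomposition of each term
  have key : ∀ χ : IrrCharacter G, ∃ β : ℂ, IsIntegral ℤ β ∧
      (if χ ∈ principalBlock M G then (χ : G → ℂ) 1 * conj ((χ : G → ℂ) g) else 0) =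
        (if (χ : G → ℂ) 1 = 1 then 1 else 0) + (p : ℂ) * β := by
    intro χ
    by_cases h1 : (χ : G → ℂ) 1 = 1
    · have hmem := linear_mem_principal hM hm χ h1
      obtain ⟨lam, hlam⟩ := Cfsg.Agent.Lib.Char.Linear.exists_hom_of_deg_one
        (Cfsg.Agent.Lib.Char.Basic.isCharacter_of_isIrrCharacter χ.2) h1
      have hgval : (χ : G → ℂ) g = 1 := by
        have h2 : Abelianization.of g = 1 := by
          rw [← MonoidHom.mem_ker, Abelianization.ker_of]
          exact hg
        have h3 := congrArg (Abelianization.lift lam) h2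
        rw [Abelianization.lift_apply_of, map_one] at h3
        rw [hlam]
        simp [h3]
      refine ⟨0, isIntegral_zero, ?_⟩
      rw [if_pos hmem, if_pos h1, h1, hgval]
      simp
    · by_cases hmem : χ ∈ principalBlock M G
      · have h0 := char_ne_zero_of_mem_principal hM hwq hmem
        rcases linear_or_dvd hp hidx hcl χ h0 with h | h
        · exact absurd h h1
        · obtain ⟨d, hd⟩ := h
          obtain ⟨n, hn⟩ := Cfsg.Agent.Lib.Char.Basic.exists_deg_of_isCharacter
            (Cfsg.Agent.Lib.Char.Basic.isCharacter_of_isIrrCharacter χ.2)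
          have hdeg : charDegree (χ : G → ℂ) = n := by
            rw [charDegree, hn]
            simp
          have hχ1 : (χ : G → ℂ) 1 = (p : ℂ) * (d : ℂ) := by
            rw [hn, ← hdeg, hd]
            push_cast
            rfl
          have hint : IsIntegral ℤ ((χ : G → ℂ) g) := by
            obtain ⟨n', ρ, -, hρ⟩ := χ.2
            rw [← hρ]
            exact Cfsg.Agent.Lib.Char.Eigen.character_isIntegral ρ g
          have hint2 : IsIntegral ℤ (conj ((χ : G → ℂ) g)) := by
            obtain ⟨n', ρ, -, hρ⟩ := χ.2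
            rw [← hρ, ← Cfsg.Agent.Lib.Char.Eigen.character_inv]
            exact Cfsg.Agent.Lib.Char.Eigen.character_isIntegral ρ _
          have hintd : IsIntegral ℤ (d : ℂ) := by
            have h := isIntegral_algebraMap (R := ℤ) (A := ℂ) (x := (d : ℤ))
            simpa using h
          refine ⟨(d : ℂ) * conj ((χ : G → ℂ) g), hintd.mul hint2, ?_⟩
          rw [if_pos hmem, if_neg h1, hχ1]
          ring
      · refine ⟨0, isIntegral_zero, ?_⟩
        rw [if_neg hmem, if_neg h1]
        simp
  choose β hβ hβ' using key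
  have hfinal : ((commutator G).index : ℂ) + (p : ℂ) * ∑ χ, β χ = 0 := by
    rw [← hsum]
    simp_rw [hβ']
    rw [Finset.sum_add_distrib, ← Finset.mul_sum]
    congr 1
    rw [← Cfsg.Agent.Lib.Char.Linear.card_linear_eq_index, Nat.card_eq_fintype_card,
      Fintype.card_subtype]
    rw [Finset.sum_ite, Finset.sum_const_zero, add_zero, Finset.sum_const, nsmul_eq_mul, mul_one]
  have hpne : (p : ℂ) ≠ 0 := by exact_mod_cast hp.ne_zero
  have hinv : (((commutator G).index : ℕ) : ℂ) / (p : ℂ) = -∑ χ, β χ := by
    field_simp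
    linear_combination hfinal
  have hdvd : p ∣ (commutator G).index := by
    apply Cfsg.Agent.Lib.Char.Central.nat_dvd_of_isIntegral_div hp.ne_zero
    rw [hinv]
    exact (IsIntegral.sum _ fun χ _ => hβ χ).neg
  rw [hm] at hdvd
  exact hpq ((Nat.prime_dvd_prime_iff_eq hp hq).mp (hp.dvd_of_dvd_pow hdvd))

end Cfsg.Agent.Lib.Kazarin.Block
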