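import Mathlib
import Cfsg.Agent.Lib.Kazarin.Block
import Cfsg.Agent.Lib.Core.Basic

/-!
# Kazarin's theorem

If the class of `x` has `p`-power size, then any two conjugates of `x` commute modulo `O_p(G)`.
-/

set_option autoImplicit false
set_option linter.unusedSectionVars false
set_option linter.style.haveILetI false

namespace Cfsg.Agent.Lib.Kazarin.Main

open Cfsg Cfsg.Agent.Lib.Core.Basic Cfsg.Agent.Lib.Kazarin.Block

universe u

section Basic

variable {G : Type u} [Group G] [Finite G] {p q : ℕ}

/-- A Sylow subgroup and a subgroup of `p`-power index factor the group. -/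
theorem exists_sylow_mul [Fact p.Prime] (P : Sylow p G) (H : Subgroup G) {a : ℕ}
    (hH : H.index = p ^ a) (g : G) : ∃ u ∈ (P : Subgroup G), ∃ c ∈ H, g = u * c := by
  classical
  let x : G ⧸ H := QuotientGroup.mk 1
  have hst : MulAction.stabilizer (P : Subgroup G) x = H.subgroupOf (P : Subgroup G) := by
    ext u
    rw [MulAction.mem_stabilizer_iff, Subgroup.mem_subgroupOf]
    change ((u : G) • x = x) ↔ _
    simp only [x, MulAction.Quotient.smul_coe, smul_eq_mul, mul_one]
    rw [QuotientGroup.eq]
    simp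
  have hidx : Nat.card (MulAction.orbit (P : Subgroup G) x) = H.relIndex (P : Subgroup G) := by
    rw [Nat.card_coe_set_eq, ← MulAction.index_stabilizer, hst]
    rfl
  have hPfin : (P : Subgroup G).FiniteIndex := inferInstance
  have hdvd : p ^ a ∣ H.relIndex (P : Subgroup G) := by
    have h1 : (H ⊓ (P : Subgroup G)).relIndex (P : Subgroup G) * (P : Subgroup G).index =
        (H ⊓ (P : Subgroup G)).index := Subgroup.relIndex_mul_index inf_le_right
    have h2 : (H ⊓ (P : Subgroup G)).relIndex H * H.index = (H ⊓ (P : Subgroup G)).index :=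
      Subgroup.relIndex_mul_index inf_le_left
    have h3 : p ^ a ∣ (H ⊓ (P : Subgroup G)).relIndex (P : Subgroup G) * (P : Subgroup G).index := by
      rw [h1, ← h2, hH]
      exact Dvd.intro_left _ rfl
    rw [Subgroup.inf_relIndex_right] at h3
    have hcop : Nat.Coprime (p ^ a) (P : Subgroup G).index :=
      Nat.Coprime.pow_left a ((Nat.Prime.coprime_iff_not_dvd (Fact.out : p.Prime)).mpr P.not_dvd_index)
    exact hcop.dvd_of_dvd_mul_right h3
  have hpos : 0 < H.relIndex (P : Subgroup G) := Nat.pos_of_ne_zero (Subgroup.FiniteIndex.index_ne_zero)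
  have hle : Nat.card (G ⧸ H) ≤ Nat.card (MulAction.orbit (P : Subgroup G) x) := by
    rw [hidx]
    have : Nat.card (G ⧸ H) = p ^ a := hH
    rw [this]
    exact Nat.le_of_dvd hpos hdvd
  have huniv : MulAction.orbit (P : Subgroup G) x = Set.univ := by
    apply Set.eq_of_subset_of_ncard_le (Set.subset_univ _)
    rw [Set.ncard_univ]
    exact hle
  have hmem : (QuotientGroup.mk g : G ⧸ H) ∈ MulAction.orbit (P : Subgroup G) x := by
    rw [huniv]
    trivial
  obtain ⟨u, hu⟩ := hmem
  refine ⟨u, u.2, (u : G)⁻¹ * g, ?_, by group⟩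
  have h5 : ((u : G) • x) = (QuotientGroup.mk g : G ⧸ H) := hu
  simp only [x, MulAction.Quotient.smul_coe, smul_eq_mul, mul_one] at h5
  exact QuotientGroup.eq.mp h5

/-- `d g = w⁻¹ * (g w g⁻¹)`; these generate a normal subgroup. -/
def commSet (w : G) : Set G := Set.range fun g : G => w⁻¹ * (g * w * g⁻¹)

theorem closure_commSet_normal (w : G) : (Subgroup.closure (commSet w)).Normal := by
  constructor
  intro n hn h
  induction hn using Subgroup.closure_induction with
  | mem x hx =>
    obtain ⟨g, rfl⟩ := hx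
    have h1 : h * (w⁻¹ * (g * w * g⁻¹)) * h⁻¹ =
        (w⁻¹ * (h * w * h⁻¹))⁻¹ * (w⁻¹ * ((h * g) * w * (h * g)⁻¹)) := by group
    simp only [] at h1 ⊢
    rw [h1]
    exact Subgroup.mul_mem _ (Subgroup.inv_mem _ (Subgroup.subset_closure ⟨h, rfl⟩))
      (Subgroup.subset_closure ⟨h * g, rfl⟩)
  | one => simp
  | mul x y _ _ hx hy =>
    have : h * (x * y) * h⁻¹ = (h * x * h⁻¹) * (h * y * h⁻¹) := by group
    rw [this]
    exact Subgroup.mul_mem _ hx hy
  | inv x _ hx =>
    have : h * x⁻¹ * h⁻¹ = (h * x * h⁻¹)⁻¹ := by group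
    rw [this]
    exact Subgroup.inv_mem _ hx

/-- If `w` normalizes a Sylow `p`-subgroup, has `p`-power class size and `O_p(G) = 1`, then `w` is
central. -/
theorem central_of_normalizes_sylow [Fact p.Prime] (h0 : pCore p G = ⊥) (P : Sylow p G) {w : G}
    (hw : w ∈ Subgroup.normalizer ((P : Subgroup G) : Set G)) {a : ℕ}
    (hidx : (Subgroup.centralizer ({w} : Set G)).index = p ^ a) (g : G) : Commute g w := by
  have hle : Subgroup.closure (commSet w) ≤ (P : Subgroup G) := by
    rw [Subgroup.closure_le]
    rintro _ ⟨t, rfl⟩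
    obtain ⟨u, hu, c, hc, rfl⟩ := exists_sylow_mul P _ hidx t
    have hcw : c * w = w * c := by
      have := Subgroup.mem_centralizer_iff.mp hc w (by simp)
      exact this.symm
    have h1 : w⁻¹ * ((u * c) * w * (u * c)⁻¹) = (w⁻¹ * u * w) * u⁻¹ := by
      have : (u * c) * w * (u * c)⁻¹ = u * w * u⁻¹ := by
        calc (u * c) * w * (u * c)⁻¹ = u * (c * w) * c⁻¹ * u⁻¹ := by group
          _ = u * w * u⁻¹ := by rw [hcw]; group
      rw [this]
      group
    simp only [SetLike.mem_coe]
    rw [h1]
    have h2 : w⁻¹ * u * w ∈ (P : Subgroup G) := by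
      have := (Subgroup.mem_normalizer_iff.mp (Subgroup.inv_mem _ hw) u).mp hu
      simpa using this
    exact Subgroup.mul_mem _ h2 (Subgroup.inv_mem _ hu)
  have hnorm := closure_commSet_normal w
  have hpg : IsPGroup p (Subgroup.closure (commSet w)) := P.isPGroup'.to_le hle
  have hbot : Subgroup.closure (commSet w) ≤ pCore p G := le_pCore hnorm hpg
  rw [h0] at hbot
  have hmem : w⁻¹ * (g * w * g⁻¹) ∈ Subgroup.closure (commSet w) :=
    Subgroup.subset_closure ⟨g, rfl⟩
  have h1 := hbot hmem
  rw [Subgroup.mem_bot] at h1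
  have h2 : g * w * g⁻¹ = w := by
    calc g * w * g⁻¹ = w * (w⁻¹ * (g * w * g⁻¹)) := by group
      _ = w := by rw [h1, mul_one]
  have h3 : g * w = w * g := by
    calc g * w = (g * w * g⁻¹) * g := by group
      _ = w * g := by rw [h2]
  exact h3

/-- The element `w` normalizes a Sylow `p`-subgroup when `G'` has no `q`-elements and `G/G'` is a
`q`-group. -/
theorem exists_sylow_normalized [hp : Fact p.Prime] [hq : Fact q.Prime] (hpq : p ≠ q) {w : G} {k m : ℕ}
    (hw : orderOf w = q ^ k) (hm : (commutator G).index = q ^ m)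
    (hno : ∀ g ∈ commutator G, ¬ q ∣ orderOf g) :
    ∃ P : Sylow p G, w ∈ Subgroup.normalizer ((P : Subgroup G) : Set G) := by
  classical
  -- `q` does not divide the order of `G'`
  have hqN : ¬ q ∣ Nat.card (commutator G) := by
    intro h
    obtain ⟨x, hx⟩ := exists_prime_orderOf_dvd_card' q h
    apply hno x x.2
    rw [← Subgroup.orderOf_coe] at hx
    rw [hx]
  obtain ⟨P₀⟩ : Nonempty (Sylow p G) := inferInstance
  have hP₀ : (P₀ : Subgroup G) ≤ commutator G := by
    intro u hu
    rw [← Abelianization.ker_of, MonoidHom.mem_ker]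
    obtain ⟨j, hj⟩ := P₀.isPGroup' ⟨u, hu⟩
    have hj' : u ^ p ^ j = 1 := by
      have := congrArg Subtype.val hj
      simpa using this
    have h1 : (Abelianization.of u) ^ (p ^ j) = 1 := by
      rw [← map_pow, hj', map_one]
    have hcard : Nat.card (Abelianization G) = q ^ m := hm
    have h2 : (Abelianization.of u) ^ (q ^ m) = 1 := by
      rw [← hcard]
      exact pow_card_eq_one'
    have hcop : Nat.Coprime (p ^ j) (q ^ m) :=
      Nat.Coprime.pow _ _ ((Nat.coprime_primes hp.out hq.out).mpr hpq)
    have h3 := orderOf_dvd_of_pow_eq_one h1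
    have h4 := orderOf_dvd_of_pow_eq_one h2
    have h5 := Nat.eq_one_of_dvd_coprimes hcop h3 h4
    exact orderOf_eq_one_iff.mp h5
  have hsup := Sylow.normalizer_sup_eq_top' P₀ hP₀
  have hcard : ¬ q ∣ Nat.card (Sylow p G) := by
    rw [Sylow.card_eq_index_normalizer P₀]
    set H := Subgroup.normalizer ((P₀ : Subgroup G) : Set G) with hHdef
    have h1 : H.index ∣ Nat.card (commutator G) := by
      have h2 : (commutator G).relIndex H = (commutator G).index := by
        have h3 := Subgroup.relIndex_sup_left (K := commutator G) (H := H)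
        have hsup' : H ⊔ commutator G = ⊤ := hsup
        rw [sup_comm, hsup', Subgroup.relIndex_top_right] at h3
        exact h3.symm
      have h4 : Nat.card ((commutator G).subgroupOf H) * (commutator G).relIndex H = Nat.card H :=
        Subgroup.card_mul_index _
      have h5 : Nat.card H * H.index = Nat.card G := Subgroup.card_mul_index H
      have h6 : Nat.card (commutator G) * (commutator G).index = Nat.card G :=
        Subgroup.card_mul_index _
      have hpos : 0 < (commutator G).index := Nat.pos_of_ne_zero Subgroup.FiniteIndex.index_ne_zero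
      refine ⟨Nat.card ((commutator G).subgroupOf H), ?_⟩
      apply Nat.eq_of_mul_eq_mul_right hpos
      rw [h6, ← h5, ← h4, h2]
      ring
    exact fun h => hqN (h.trans h1)
  have hpg : IsPGroup q (Subgroup.zpowers w) := by
    rintro ⟨x, hx⟩
    obtain ⟨i, rfl⟩ := Subgroup.mem_zpowers_iff.mp hx
    refine ⟨k, Subtype.ext ?_⟩
    simp only [SubgroupClass.coe_pow, OneMemClass.coe_one]
    rw [← zpow_natCast, ← zpow_mul, mul_comm, zpow_mul, zpow_natCast, ← hw, pow_orderOf_eq_one,
      one_zpow]
  obtain ⟨P, hP⟩ := hpg.nonempty_fixed_point_of_prime_not_dvd_card (Sylow p G) hcard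
  refine ⟨P, ?_⟩
  apply Sylow.smul_eq_iff_mem_normalizer.mp
  have := hP ⟨w, Subgroup.mem_zpowers w⟩
  exact this

/-- **The generating case**: if `⟨w^G⟩ = G`, `w` is a `q`-element of `p`-power class size and
`O_p(G) = 1`, then `w` is central. -/
theorem central_of_closure_top [hp : Fact p.Prime] [hq : Fact q.Prime] (hpq : p ≠ q) (h0 : pCore p G = ⊥)
    {w : G} {k a : ℕ} (hw : orderOf w = q ^ k)
    (hidx : (Subgroup.centralizer ({w} : Set G)).index = p ^ a)
    (hcl : Subgroup.normalClosure ({w} : Set G) = ⊤) (g : G) : Commute g w := by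
  obtain ⟨m, hm⟩ := exists_index_commutator hq.out hw hcl
  obtain ⟨P, hP⟩ := exists_sylow_normalized (p := p) hpq hw hm
    (fun g hg => not_dvd_orderOf_of_mem_commutator hp.out hq.out hpq hw hidx hcl hg)
  exact central_of_normalizes_sylow h0 P hP hidx g

/-- Membership in the conjugates of a singleton. -/
theorem exists_conj_of_mem {x y : G} (hy : y ∈ Group.conjugatesOfSet ({x} : Set G)) :
    ∃ c : G, c * x * c⁻¹ = y := by
  obtain ⟨a, ha, hy'⟩ := Group.mem_conjugatesOfSet_iff.mp hy
  rw [Set.mem_singleton_iff] at ha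
  rw [ha] at hy'
  exact isConj_iff.mp hy'

/-- Products of pairwise commuting elements: exponents. -/
theorem pow_eq_one_of_mem_closure {S : Set G} (hS : ∀ x ∈ S, ∀ y ∈ S, Commute x y) {n : ℕ}
    (hn : ∀ x ∈ S, x ^ n = 1) {a : G} (ha : a ∈ Subgroup.closure S) : a ^ n = 1 := by
  have hcomm : ∀ x ∈ Subgroup.closure S, ∀ y ∈ Subgroup.closure S, Commute x y := by
    intro x hx y hy
    have h1 := Subgroup.isMulCommutative_closure (k := S) (fun x hx y hy => hS x hx y hy)
    have := h1.is_comm.comm (⟨x, hx⟩ : Subgroup.closure S) ⟨y, hy⟩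
    exact congrArg Subtype.val this
  induction ha using Subgroup.closure_induction with
  | mem x hx => exact hn x hx
  | one => simp
  | mul x y hx hy h1 h2 => rw [(hcomm x hx y hy).mul_pow, h1, h2, one_mul]
  | inv x _ h1 => rw [inv_pow, h1, inv_one]

/-- All conjugates of `x` commuting: the normal closure has the exponent of `x`. -/
theorem pow_eq_one_of_mem_normalClosure {x : G}
    (hc : ∀ g h : G, Commute (g * x * g⁻¹) (h * x * h⁻¹)) {n : ℕ} (hn : x ^ n = 1) {a : G}
    (ha : a ∈ Subgroup.normalClosure ({x} : Set G)) : a ^ n = 1 := by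
  refine pow_eq_one_of_mem_closure (S := Group.conjugatesOfSet ({x} : Set G)) ?_ ?_ ha
  · intro y hy z hz
    obtain ⟨c, rfl⟩ := exists_conj_of_mem hy
    obtain ⟨d, rfl⟩ := exists_conj_of_mem hz
    exact hc c d
  · intro y hy
    obtain ⟨c, rfl⟩ := exists_conj_of_mem hy
    rw [conj_pow, hn]
    simp

/-- An element with commuting conjugates of `q`-power order lies in `O_q`. -/
theorem mem_pCore_of_commute [Fact q.Prime] {x : G}
    (hc : ∀ g h : G, Commute (g * x * g⁻¹) (h * x * h⁻¹)) {k : ℕ} (hk : orderOf x = q ^ k) :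
    x ∈ pCore q G := by
  have hnorm : (Subgroup.normalClosure ({x} : Set G)).Normal := inferInstance
  have hpg : IsPGroup q (Subgroup.normalClosure ({x} : Set G)) := by
    rintro ⟨a, ha⟩
    refine ⟨k, Subtype.ext ?_⟩
    simp only [SubgroupClass.coe_pow, OneMemClass.coe_one]
    apply pow_eq_one_of_mem_normalClosure hc _ ha
    rw [← hk, pow_orderOf_eq_one]
  exact le_pCore hnorm hpg (Subgroup.subset_normalClosure rfl)

/-- The index of the centralizer of a conjugate. -/
theorem index_centralizer_conj (g w : G) :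
    (Subgroup.centralizer ({g * w * g⁻¹} : Set G)).index =
      (Subgroup.centralizer ({w} : Set G)).index := by
  have h : Subgroup.centralizer ({g * w * g⁻¹} : Set G) =
      (Subgroup.centralizer ({w} : Set G)).map (MulAut.conj g).toMonoidHom := by
    ext y
    simp only [Subgroup.mem_centralizer_singleton_iff, Subgroup.mem_map, MulEquiv.coe_toMonoidHom,
      MulAut.conj_apply]
    constructor
    · intro hy
      refine ⟨g⁻¹ * y * g, ?_, by group⟩
      have h1 : y * (g * w * g⁻¹) = (g * w * g⁻¹) * y := hy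
      calc g⁻¹ * y * g * w = g⁻¹ * (y * (g * w * g⁻¹)) * g := by group
        _ = g⁻¹ * ((g * w * g⁻¹) * y) * g := by rw [h1]
        _ = w * (g⁻¹ * y * g) := by group
    · rintro ⟨z, hz, rfl⟩
      have h1 : z * w = w * z := hz
      calc g * z * g⁻¹ * (g * w * g⁻¹) = g * (z * w) * g⁻¹ := by group
        _ = g * (w * z) * g⁻¹ := by rw [h1]
        _ = g * w * g⁻¹ * (g * z * g⁻¹) := by group
  rw [h]
  exact Subgroup.index_map_of_bijective (MulAut.conj g).bijective _

/-- `|L : C ∩ L|` divides `|G : C|` for `L` normal. -/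
theorem relIndex_dvd_index_of_normal_right (C L : Subgroup G) [L.Normal] : C.relIndex L ∣ C.index := by
  have hcard : ∀ {H K : Subgroup G}, H ≤ K → H.relIndex K * Nat.card H = Nat.card K := by
    intro H K h
    have h1 := Subgroup.card_mul_index (H.subgroupOf K)
    have h2 : Nat.card (H.subgroupOf K) = Nat.card H :=
      Nat.card_congr (Subgroup.subgroupOfEquivOfLe h).toEquiv
    rw [h2] at h1
    rw [mul_comm]
    exact h1
  have h1 := hcard (H := C) (K := C ⊔ L) le_sup_left
  have h2 := hcard (H := L) (K := C ⊔ L) le_sup_right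
  have h3 := hcard (H := C ⊓ L) (K := C) inf_le_left
  have h4 := hcard (H := C ⊓ L) (K := L) inf_le_right
  rw [Subgroup.inf_relIndex_left] at h3
  rw [Subgroup.inf_relIndex_right] at h4
  rw [Subgroup.relIndex_sup_right] at h2
  have hR : 0 < L.relIndex C := Nat.pos_of_ne_zero (by
    intro h0
    rw [h0, zero_mul] at h3
    exact Nat.card_pos.ne h3)
  have hx : 0 < Nat.card ↥(C ⊓ L) := Nat.card_pos
  have heq : C.relIndex (C ⊔ L) = C.relIndex L := by
    apply Nat.eq_of_mul_eq_mul_right (Nat.mul_pos hR hx)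
    calc C.relIndex (C ⊔ L) * (L.relIndex C * Nat.card ↥(C ⊓ L)) = Nat.card ↥(C ⊔ L) := by rw [h3, h1]
      _ = L.relIndex C * (C.relIndex L * Nat.card ↥(C ⊓ L)) := by rw [h4, h2]
      _ = C.relIndex L * (L.relIndex C * Nat.card ↥(C ⊓ L)) := by ring
  rw [← heq]
  exact Subgroup.relIndex_dvd_index_of_le le_sup_left

end Basic

section Induction

variable {p q : ℕ}

/-- **Main induction** for `q`-elements, `q ≠ p`. -/
theorem commute_conj_of_qElt [hp : Fact p.Prime] [hq : Fact q.Prime] (hpq : p ≠ q) :
    ∀ (n : ℕ) (G : Type u) [Group G] [Finite G], Nat.card G = n → pCore p G = ⊥ →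
      ∀ (w : G) (k a : ℕ), orderOf w = q ^ k →
        (Subgroup.centralizer ({w} : Set G)).index = p ^ a →
          ∀ g h : G, Commute (g * w * g⁻¹) (h * w * h⁻¹) := by
  intro n
  induction n using Nat.strong_induction_on with
  | _ n ih =>
    intro G _ _ hn h0 w k a hw hidx g h
    by_cases hcl : Subgroup.normalClosure ({w} : Set G) = ⊤
    · have hc : ∀ g : G, g * w * g⁻¹ = w := by
        intro g
        have h1 : g * w = w * g := central_of_closure_top hpq h0 hw hidx hcl g
        rw [h1]
        group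
      rw [hc, hc]
    -- the proper case
    set L := Subgroup.normalClosure ({w} : Set G) with hLdef
    have hLn : L.Normal := inferInstance
    have hlt : Nat.card L < n := by
      rw [← hn]
      apply lt_of_le_of_ne (Subgroup.card_le_card_group L)
      intro h1
      exact hcl (Subgroup.eq_top_of_card_eq L h1)
    have h0L : pCore p L = ⊥ := by
      have h1 := map_pCore_le_of_isSubnormal (p := p) (G := G) (K := L) hLn.isSubnormal
      rw [h0, le_bot_iff, Subgroup.map_eq_bot_iff_of_injective _ L.subtype_injective] at h1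
      exact h1
    have hmem : ∀ c : G, c * w * c⁻¹ ∈ L := fun c =>
      hLn.conj_mem w (Subgroup.subset_normalClosure rfl) c
    -- each conjugate has index `p`-power in `L` and commuting `L`-conjugates
    have hidxL : ∀ c : G, ∃ b : ℕ, (Subgroup.centralizer
        ({(⟨c * w * c⁻¹, hmem c⟩ : L)} : Set L)).index = p ^ b := by
      intro c
      have h1 : (Subgroup.centralizer ({(⟨c * w * c⁻¹, hmem c⟩ : L)} : Set L)) =
          (Subgroup.centralizer ({c * w * c⁻¹} : Set G)).subgroupOf L := by
        ext y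
        simp only [Subgroup.mem_centralizer_singleton_iff, Subgroup.mem_subgroupOf]
        constructor
        · intro hy
          exact congrArg Subtype.val hy
        · intro hy
          exact Subtype.ext hy
      have h2 : (Subgroup.centralizer ({c * w * c⁻¹} : Set G)).relIndex L ∣
          (Subgroup.centralizer ({c * w * c⁻¹} : Set G)).index := by
        exact relIndex_dvd_index_of_normal_right _ _
      rw [index_centralizer_conj, hidx] at h2
      obtain ⟨b, -, hb⟩ := (Nat.dvd_prime_pow hp.out).mp h2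
      exact ⟨b, by rw [h1]; exact hb⟩
    have hord : ∀ c : G, orderOf (⟨c * w * c⁻¹, hmem c⟩ : L) = q ^ k := by
      intro c
      rw [← Subgroup.orderOf_coe]
      have h1 := MulEquiv.orderOf_eq (MulAut.conj c) w
      rw [hw] at h1
      exact h1
    have hconjL : ∀ c : G, ∀ l₁ l₂ : L,
        Commute (l₁ * (⟨c * w * c⁻¹, hmem c⟩ : L) * l₁⁻¹) (l₂ * (⟨c * w * c⁻¹, hmem c⟩ : L) * l₂⁻¹) := by
      intro c l₁ l₂
      obtain ⟨b, hb⟩ := hidxL c
      exact ih _ hlt L rfl h0L _ k b (hord c) hb l₁ l₂
    have hcore : ∀ c : G, (⟨c * w * c⁻¹, hmem c⟩ : L) ∈ pCore q L := fun c =>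
      mem_pCore_of_commute (hconjL c) (hord c)
    have htop : pCore q L = ⊤ := by
      rw [eq_top_iff]
      have key : ∀ y : G, y ∈ Subgroup.closure (Group.conjugatesOfSet ({w} : Set G)) →
          ∀ hL : y ∈ L, (⟨y, hL⟩ : L) ∈ pCore q L := by
        intro y hy2
        induction hy2 using Subgroup.closure_induction with
        | mem z hz =>
          intro hL
          obtain ⟨c, rfl⟩ := exists_conj_of_mem hz
          exact hcore c
        | one => intro _; exact Subgroup.one_mem _
        | mul x y hx hy h1 h2 =>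
          intro hL
          exact Subgroup.mul_mem _ (h1 hx) (h2 hy)
        | inv x hx h1 =>
          intro hL
          exact Subgroup.inv_mem _ (h1 hx)
      rintro ⟨y, hy⟩ -
      exact key y hy hy
    have hqL : IsPGroup q L := pCore_eq_top_iff.mp htop
    -- central in `L`
    have hcentral : ∀ c : G, ∀ y : L, Commute (⟨c * w * c⁻¹, hmem c⟩ : L) y := by
      intro c y
      obtain ⟨b, hb⟩ := hidxL c
      have hcard : ∃ e, Nat.card L = q ^ e := IsPGroup.iff_card.mp hqL
      obtain ⟨e, he⟩ := hcard
      have hdvd : (Subgroup.centralizer ({(⟨c * w * c⁻¹, hmem c⟩ : L)} : Set L)).index ∣ q ^ e := by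
        rw [← he]
        exact Subgroup.index_dvd_card _
      rw [hb] at hdvd
      have hone : p ^ b = 1 := by
        have hcop : Nat.Coprime (p ^ b) (q ^ e) :=
          Nat.Coprime.pow _ _ ((Nat.coprime_primes hp.out hq.out).mpr hpq)
        exact Nat.Coprime.eq_one_of_dvd hcop hdvd
      rw [hone] at hb
      have htop' := Subgroup.index_eq_one.mp hb
      have hy : y ∈ Subgroup.centralizer ({(⟨c * w * c⁻¹, hmem c⟩ : L)} : Set L) := by
        rw [htop']
        trivial
      rw [Subgroup.mem_centralizer_singleton_iff] at hy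
      exact hy.symm
    have := hcentral g ⟨h * w * h⁻¹, hmem h⟩
    exact congrArg Subtype.val this

/-- A `p`-element of `p`-power class size lies in `O_p(G)`. -/
theorem mem_pCore_of_pElt {G : Type u} [Group G] [Finite G] [hp : Fact p.Prime] {x : G} {k a : ℕ}
    (hk : orderOf x = p ^ k) (hidx : (Subgroup.centralizer ({x} : Set G)).index = p ^ a) :
    x ∈ pCore p G := by
  classical
  -- a Sylow subgroup containing `x`
  have hpg : IsPGroup p (Subgroup.zpowers x) := by
    rintro ⟨y, hy⟩
    obtain ⟨i, rfl⟩ := Subgroup.mem_zpowers_iff.mp hy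
    refine ⟨k, Subtype.ext ?_⟩
    simp only [SubgroupClass.coe_pow, OneMemClass.coe_one]
    rw [← zpow_natCast, ← zpow_mul, mul_comm, zpow_mul, zpow_natCast, ← hk, pow_orderOf_eq_one,
      one_zpow]
  obtain ⟨P, hP⟩ := hpg.exists_le_sylow
  have hxP : x ∈ (P : Subgroup G) := hP (Subgroup.mem_zpowers x)
  have hnorm : (Subgroup.normalClosure ({x} : Set G)).Normal := inferInstance
  have hle : Subgroup.normalClosure ({x} : Set G) ≤ (P : Subgroup G) := by
    rw [Subgroup.normalClosure, Subgroup.closure_le]
    intro y hy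
    obtain ⟨c, rfl⟩ := exists_conj_of_mem hy
    obtain ⟨u, hu, d, hd, rfl⟩ := exists_sylow_mul P _ hidx c
    have hdx : d * x = x * d := by
      have := Subgroup.mem_centralizer_iff.mp hd x (by simp)
      exact this.symm
    have : (u * d) * x * (u * d)⁻¹ = u * x * u⁻¹ := by
      calc (u * d) * x * (u * d)⁻¹ = u * (d * x) * d⁻¹ * u⁻¹ := by group
        _ = u * x * u⁻¹ := by rw [hdx]; group
    simp only [SetLike.mem_coe]
    rw [this]
    exact Subgroup.mul_mem _ (Subgroup.mul_mem _ hu hxP) (Subgroup.inv_mem _ hu)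
  exact le_pCore hnorm (P.isPGroup'.to_le hle) (Subgroup.subset_normalClosure rfl)

/-- **Conjugates commute when `O_p(G) = 1`** (general element). -/
theorem commute_conj_general {G : Type u} [Group G] [Finite G] [hp : Fact p.Prime] (h0 : pCore p G = ⊥) :
    ∀ (n : ℕ) (x : G), orderOf x = n → (∃ a : ℕ, (Subgroup.centralizer ({x} : Set G)).index = p ^ a) →
      ∀ g h : G, Commute (g * x * g⁻¹) (h * x * h⁻¹) := by
  intro n
  induction n using Nat.strong_induction_on with
  | _ n ih =>
    intro x hn hidx g h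
    have hn0 : n ≠ 0 := by
      rw [← hn]
      exact (orderOf_pos x).ne'
    by_cases hn1 : n = 1
    · rw [hn1, orderOf_eq_one_iff] at hn
      subst hn
      simp
    -- the smallest prime factor
    set r := n.minFac with hr
    have hrp : r.Prime := Nat.minFac_prime hn1
    haveI : Fact r.Prime := ⟨hrp⟩
    obtain ⟨e, m, hm, hnm⟩ := Nat.exists_eq_pow_mul_and_not_dvd hn0 r hrp.ne_one
    have he : e ≠ 0 := by
      intro he0
      apply hm
      have h1 : n = m := by rw [hnm, he0]; simp
      rw [← h1]
      exact Nat.minFac_dvd n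
    by_cases hm1 : m = 1
    · -- `x` has `r`-power order
      obtain ⟨a, ha⟩ := hidx
      have hord : orderOf x = r ^ e := by rw [hn, hnm, hm1, mul_one]
      by_cases hrpe : p = r
      · subst hrpe
        have hmem := mem_pCore_of_pElt hord ha
        rw [h0, Subgroup.mem_bot] at hmem
        subst hmem
        simp
      · exact commute_conj_of_qElt hrpe _ G rfl h0 x e a hord ha g h
    · -- split `x`
      have hcop : Nat.Coprime (r ^ e) m :=
        Nat.Coprime.pow_left e ((Nat.Prime.coprime_iff_not_dvd hrp).mpr hm)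
      obtain ⟨a, ha⟩ := hidx
      have hmpos : 0 < m := Nat.pos_of_ne_zero (by
        rintro rfl
        simp at hnm
        exact hn0 hnm)
      have hUord : orderOf (x ^ m) = r ^ e := by
        rw [orderOf_pow_of_dvd hmpos.ne' (by rw [hn, hnm]; exact Dvd.intro_left _ rfl), hn, hnm]
        exact Nat.mul_div_cancel _ hmpos
      have hVord : orderOf (x ^ (r ^ e)) = m := by
        rw [orderOf_pow_of_dvd (pow_pos hrp.pos e).ne' (by rw [hn, hnm]; exact Dvd.intro _ rfl), hn, hnm]
        exact Nat.mul_div_cancel_left _ (pow_pos hrp.pos e)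
      have hle : ∀ t : ℕ, Subgroup.centralizer ({x} : Set G) ≤
          Subgroup.centralizer ({x ^ t} : Set G) := by
        intro t y hy
        rw [Subgroup.mem_centralizer_singleton_iff] at hy ⊢
        exact ((show Commute y x from hy).pow_right t)
      have hidxt : ∀ t : ℕ, ∃ b : ℕ, (Subgroup.centralizer ({x ^ t} : Set G)).index = p ^ b := by
        intro t
        have h1 := Subgroup.index_dvd_of_le (hle t)
        rw [ha] at h1
        obtain ⟨b, -, hb⟩ := (Nat.dvd_prime_pow hp.out).mp h1
        exact ⟨b, hb⟩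
      have hUlt : r ^ e < n := by
        rw [hnm]
        exact lt_mul_of_one_lt_right (pow_pos hrp.pos e) (by omega)
      have hVlt : m < n := by
        rw [hnm]
        exact lt_mul_of_one_lt_left hmpos (Nat.one_lt_pow he hrp.one_lt)
      have hU := ih _ hUlt (x ^ m) hUord (hidxt m)
      have hV := ih _ hVlt (x ^ (r ^ e)) hVord (hidxt (r ^ e))
      -- the normal closures intersect trivially
      have hdis : Disjoint (Subgroup.normalClosure ({x ^ m} : Set G))
          (Subgroup.normalClosure ({x ^ (r ^ e)} : Set G)) := by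
        rw [Subgroup.disjoint_def]
        intro y hy1 hy2
        have h1 : y ^ (r ^ e) = 1 := pow_eq_one_of_mem_normalClosure hU (by
          rw [← hUord, pow_orderOf_eq_one]) hy1
        have h2 : y ^ m = 1 := pow_eq_one_of_mem_normalClosure hV (by
          rw [← hVord, pow_orderOf_eq_one]) hy2
        exact orderOf_eq_one_iff.mp (Nat.eq_one_of_dvd_coprimes hcop
          (orderOf_dvd_of_pow_eq_one h1) (orderOf_dvd_of_pow_eq_one h2))
      have hcross : ∀ c d : G, Commute (c * x ^ m * c⁻¹) (d * x ^ (r ^ e) * d⁻¹) := by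
        intro c d
        exact Subgroup.commute_of_normal_of_disjoint _ _ inferInstance inferInstance hdis _ _
          ((inferInstance : (Subgroup.normalClosure ({x ^ m} : Set G)).Normal).conj_mem _
            (Subgroup.subset_normalClosure rfl) c)
          ((inferInstance : (Subgroup.normalClosure ({x ^ (r ^ e)} : Set G)).Normal).conj_mem _
            (Subgroup.subset_normalClosure rfl) d)
      -- Bezout
      have hbez : ∃ s t : ℤ, x = (x ^ m) ^ s * (x ^ (r ^ e)) ^ t := by
        have hg := Nat.gcd_eq_gcd_ab m (r ^ e)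
        rw [Nat.Coprime.symm hcop] at hg
        refine ⟨Nat.gcdA m (r ^ e), Nat.gcdB m (r ^ e), ?_⟩
        rw [← zpow_natCast x m, ← zpow_natCast x (r ^ e), ← zpow_mul, ← zpow_mul, ← zpow_add, ← hg]
        simp
      obtain ⟨s, t, hst⟩ := hbez
      have hconj : ∀ c : G, c * x * c⁻¹ = (c * x ^ m * c⁻¹) ^ s * (c * x ^ (r ^ e) * c⁻¹) ^ t := by
        intro c
        rw [conj_zpow, conj_zpow]
        nth_rewrite 1 [hst]
        group
      rw [hconj g, hconj h]
      apply Commute.mul_left
      · apply Commute.mul_right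
        · exact (hU g h).zpow_zpow s s
        · exact (hcross g h).zpow_zpow s t
      · apply Commute.mul_right
        · exact ((hcross h g).symm).zpow_zpow t s
        · exact (hV g h).zpow_zpow t t

/-- **Kazarin's theorem**, commutator form. -/
theorem commutator_mem_pCore {G : Type u} [Group G] [Finite G] [hp : Fact p.Prime] (x : G)
    (hx : ∃ a : ℕ, (Subgroup.centralizer ({x} : Set G)).index = p ^ a) (g h : G) :
    (g * x * g⁻¹) * (h * x * h⁻¹) * (g * x * g⁻¹)⁻¹ * (h * x * h⁻¹)⁻¹ ∈ pCore p G := by
  obtain ⟨a, ha⟩ := hx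
  set K := pCore p G with hK
  haveI : K.Normal := inferInstance
  let π : G →* G ⧸ K := QuotientGroup.mk' K
  have hπ : Function.Surjective π := QuotientGroup.mk'_surjective K
  have hidx : ∃ b : ℕ, (Subgroup.centralizer ({π x} : Set (G ⧸ K))).index = p ^ b := by
    have hle : (Subgroup.centralizer ({x} : Set G)).map π ≤ Subgroup.centralizer ({π x} : Set (G ⧸ K)) := by
      rintro _ ⟨y, hy, rfl⟩
      have hy' : y ∈ Subgroup.centralizer ({x} : Set G) := hy
      rw [Subgroup.mem_centralizer_singleton_iff] at hy' ⊢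
      rw [← map_mul, ← map_mul, hy']
    have h1 := Subgroup.index_dvd_of_le hle
    have h2 := Subgroup.index_map_dvd (Subgroup.centralizer ({x} : Set G)) hπ
    rw [ha] at h2
    obtain ⟨b, -, hb⟩ := (Nat.dvd_prime_pow hp.out).mp (h1.trans h2)
    exact ⟨b, hb⟩
  have hbot : pCore p (G ⧸ K) = ⊥ := pCore_quotient_eq_bot
  have hc := commute_conj_general hbot _ (π x) rfl hidx (π g) (π h)
  have hker : π ((g * x * g⁻¹) * (h * x * h⁻¹) * (g * x * g⁻¹)⁻¹ * (h * x * h⁻¹)⁻¹) = 1 := by
    simp only [map_mul, map_inv]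
    have h1 : π g * π x * (π g)⁻¹ * (π h * π x * (π h)⁻¹) = π h * π x * (π h)⁻¹ * (π g * π x * (π g)⁻¹) := hc
    rw [h1]
    group
  exact (QuotientGroup.eq_one_iff _).mp hker

/-- **Kazarin's theorem**: the normal closure of an element of prime power class size is solvable. -/
theorem isSolvable_normalClosure {G : Type u} [Group G] [Finite G] [hp : Fact p.Prime] (x : G)
    (hx : ∃ a : ℕ, (Subgroup.centralizer ({x} : Set G)).index = p ^ a) :
    Group.IsSolvable (Subgroup.normalClosure ({x} : Set G)) := by
  set K := pCore p G with hK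
  haveI : K.Normal := inferInstance
  set L := Subgroup.normalClosure ({x} : Set G) with hL
  let π : G →* G ⧸ K := QuotientGroup.mk' K
  let f : L →* G ⧸ K := π.comp L.subtype
  -- the image of `L` is commutative
  have hS : ∀ a ∈ π '' Group.conjugatesOfSet ({x} : Set G),
      ∀ b ∈ π '' Group.conjugatesOfSet ({x} : Set G), a * b = b * a := by
    rintro _ ⟨a, ha, rfl⟩ _ ⟨b, hb, rfl⟩
    obtain ⟨g, rfl⟩ := exists_conj_of_mem ha
    obtain ⟨h, rfl⟩ := exists_conj_of_mem hb
    have h1 := commutator_mem_pCore x hx g h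
    have h2 : π ((g * x * g⁻¹) * (h * x * h⁻¹) * (g * x * g⁻¹)⁻¹ * (h * x * h⁻¹)⁻¹) = 1 :=
      (QuotientGroup.eq_one_iff _).mpr h1
    rw [map_mul, map_mul, map_mul, map_inv, map_inv] at h2
    have h3 := mul_inv_eq_one.mp h2
    have h4 := mul_inv_eq_iff_eq_mul.mp h3
    rw [← map_mul, ← map_mul]
    rw [map_mul, map_mul]
    exact h4
  have hcomm := Subgroup.isMulCommutative_closure hS
  have hrange : ∀ a b : f.range, a * b = b * a := by
    rintro ⟨_, ⟨a, rfl⟩⟩ ⟨_, ⟨b, rfl⟩⟩
    have hmem : ∀ y : L, f y ∈ Subgroup.closure (π '' Group.conjugatesOfSet ({x} : Set G)) := by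
      rintro ⟨y, hy⟩
      have h1 : y ∈ Subgroup.closure (Group.conjugatesOfSet ({x} : Set G)) := hy
      have h2 : π y ∈ (Subgroup.closure (Group.conjugatesOfSet ({x} : Set G))).map π :=
        ⟨y, h1, rfl⟩
      rw [MonoidHom.map_closure] at h2
      exact h2
    have h5 := hcomm.is_comm.comm ⟨f a, hmem a⟩ ⟨f b, hmem b⟩
    have h6 : f a * f b = f b * f a := congrArg Subtype.val h5
    exact Subtype.ext h6
  haveI : Group.IsSolvable f.range := Group.isSolvable_of_comm hrange
  have hker : IsPGroup p f.ker := by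
    rintro ⟨y, hy⟩
    have h1 : (y : G) ∈ K := (QuotientGroup.eq_one_iff _).mp hy
    obtain ⟨k, hk⟩ := (pCore_isPGroup (p := p) (G := G)) ⟨(y : G), h1⟩
    refine ⟨k, Subtype.ext (Subtype.ext ?_)⟩
    have := congrArg Subtype.val hk
    simpa using this
  haveI : Group.IsNilpotent f.ker := hker.isNilpotent
  exact Group.isSolvable_of_ker_le_range f.ker.subtype f.rangeRestrict (by
    rw [MonoidHom.ker_rangeRestrict, Subgroup.range_subtype])

end Induction

end Cfsg.Agent.Lib.Kazarin.Main
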